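import Mathlib

/-!
# Witnesses for non-abelian Sylow 2-subgroups

`NAS G`: some non-abelian 2-subgroup of `G` is generated by two elements.
-/

set_option autoImplicit false

namespace Cfsg.Agent.Lib.CTwoAbelian

open Subgroup

/-- Two non-commuting elements generating a 2-group. -/
def NAS (G : Type*) [Group G] : Prop :=
  ∃ a b : G, IsPGroup 2 (closure ({a, b} : Set G)) ∧ a * b ≠ b * a

variable {G H : Type*} [Group G] [Group H]

theorem NAS.map (h : NAS G) (f : G →* H) (hf : Function.Injective f) : NAS H := by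
  obtain ⟨a, b, hp, hab⟩ := h
  refine ⟨f a, f b, ?_, fun he => hab (hf (by rw [map_mul, map_mul, he]))⟩
  have : closure ({f a, f b} : Set H) = (closure ({a, b} : Set G)).map f := by
    rw [MonoidHom.map_closure, Set.image_pair]
  rw [this]
  exact hp.map f

theorem NAS.of_equiv (h : NAS G) (e : H ≃* G) : NAS H :=
  h.map e.symm.toMonoidHom e.symm.injective

theorem NAS.of_subgroup {K : Subgroup G} (h : NAS K) : NAS G :=
  h.map K.subtype K.subtype_injective

theorem NAS.of_le {K L : Subgroup G} (hle : K ≤ L) (h : NAS K) : NAS L :=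
  h.map (inclusion hle) (inclusion_injective hle)

theorem NAS.not_isMulCommutative [Finite G] (h : NAS G) (S : Sylow 2 G) :
    ¬ IsMulCommutative (S : Subgroup G) := by
  obtain ⟨a, b, hp, hab⟩ := h
  obtain ⟨T, hT⟩ := hp.exists_le_sylow
  intro hS
  obtain ⟨g, hg⟩ := MulAction.exists_smul_eq G T S
  have hmem : ∀ x, x ∈ closure ({a, b} : Set G) → g * x * g⁻¹ ∈ (S : Subgroup G) := by
    intro x hx
    rw [← hg, Sylow.coe_subgroup_smul]
    exact Subgroup.smul_mem_pointwise_smul x (MulAut.conj g) _ (hT hx)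
  have ha := hmem a (subset_closure (by simp))
  have hb := hmem b (subset_closure (by simp))
  have := hS.is_comm.comm ⟨_, ha⟩ ⟨_, hb⟩
  have := congrArg Subtype.val this
  simp only [MulMemClass.coe_mul] at this
  apply hab
  have h2 : g * (a * b) * g⁻¹ = g * (b * a) * g⁻¹ := by
    simpa [mul_assoc] using this
  exact mul_left_cancel (mul_right_cancel h2)

/-- A quotient by an odd kernel or any kernel avoided by the commutator. -/
theorem NAS.quotient {N : Subgroup G} [N.Normal] {a b : G} (hp : IsPGroup 2 (closure ({a, b} : Set G)))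
    (hab : a⁻¹ * b⁻¹ * a * b ∉ N) : NAS (G ⧸ N) := by
  refine ⟨QuotientGroup.mk' N a, QuotientGroup.mk' N b, ?_, fun he => hab ?_⟩
  · have : closure ({QuotientGroup.mk' N a, QuotientGroup.mk' N b} : Set (G ⧸ N)) =
        (closure ({a, b} : Set G)).map (QuotientGroup.mk' N) := by
      rw [MonoidHom.map_closure, Set.image_pair]
    rw [this]
    exact hp.map _
  · rw [← map_mul, ← map_mul, QuotientGroup.mk'_eq_mk'] at he
    obtain ⟨z, hz, he⟩ := he
    have : z = (a * b)⁻¹ * (b * a) := by rw [← he]; group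
    have h2 : a⁻¹ * b⁻¹ * a * b = ((a * b)⁻¹ * (b * a))⁻¹ * 1 := by group
    have h3 : a⁻¹ * b⁻¹ * a * b = z⁻¹ := by rw [this]; group
    rw [h3]
    exact inv_mem hz

theorem closure_pair_isPGroup {a b : G} {k : ℕ} (ha : a * a = 1) (hb : b * b = 1)
    (hab : (a * b) ^ (2 ^ k) = 1) : IsPGroup 2 (closure ({a, b} : Set G)) := by
  set r := a * b with hr
  have hbar : b = a * r := by rw [hr, ← mul_assoc, ha, one_mul]
  have hinv : a * r * a = r⁻¹ := by
    have : r⁻¹ = b * a := by
      rw [inv_eq_iff_mul_eq_one, hr]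
      rw [show a * b * (b * a) = a * (b * b) * a by group, hb, mul_one, ha]
    rw [this, hr, ← mul_assoc, ha, one_mul]
  have hain : a⁻¹ = a := inv_eq_of_mul_eq_one_right ha
  have hconj : ∀ i : ℤ, a * r ^ i = r ^ (-i) * a := by
    intro i
    have h1 : a * r * a⁻¹ = r⁻¹ := by rw [hain, hinv]
    have h2 : a * r ^ i * a⁻¹ = r ^ (-i) := by
      rw [← conj_zpow, h1, inv_zpow, zpow_neg]
    rw [← h2, inv_mul_cancel_right]
  have key : ∀ x ∈ closure ({a, b} : Set G), ∃ i : ℤ, x = r ^ i ∨ x = r ^ i * a := by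
    intro x hx
    induction hx using closure_induction with
    | mem y hy =>
      rcases hy with rfl | hy
      · exact ⟨0, Or.inr (by simp)⟩
      · rcases hy with rfl
        refine ⟨-1, Or.inr ?_⟩
        rw [← hconj 1, zpow_one]
        exact hbar
    | one => exact ⟨0, Or.inl (zpow_zero r).symm⟩
    | mul y z _ _ hy hz =>
      obtain ⟨i, rfl | rfl⟩ := hy <;> obtain ⟨j, rfl | rfl⟩ := hz
      · exact ⟨i + j, Or.inl (zpow_add r i j).symm⟩
      · exact ⟨i + j, Or.inr (by rw [← mul_assoc, zpow_add])⟩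
      · exact ⟨i - j, Or.inr (by rw [mul_assoc, hconj, ← mul_assoc, ← zpow_add, sub_eq_add_neg])⟩
      · refine ⟨i - j, Or.inl ?_⟩
        rw [mul_assoc, ← mul_assoc a, hconj, mul_assoc _ a a, ha, mul_one, ← zpow_add, sub_eq_add_neg]
    | inv y _ hy =>
      obtain ⟨i, rfl | rfl⟩ := hy
      · exact ⟨-i, Or.inl (zpow_neg r i).symm⟩
      · refine ⟨i, Or.inr ?_⟩
        rw [mul_inv_rev, hain, ← zpow_neg, hconj, neg_neg]
  intro x
  obtain ⟨x, hx⟩ := x
  obtain ⟨i, rfl | rfl⟩ := key x hx
  · refine ⟨k, Subtype.ext ?_⟩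
    show (r ^ i) ^ (2 ^ k) = 1
    rw [← zpow_natCast, ← zpow_mul, mul_comm, zpow_mul, zpow_natCast, hab, one_zpow]
  · refine ⟨1, Subtype.ext ?_⟩
    show (r ^ i * a) ^ (2 ^ 1) = 1
    rw [pow_one, sq, mul_assoc, ← mul_assoc a, hconj, mul_assoc _ a a, ha, mul_one, ← zpow_add,
      add_neg_cancel, zpow_zero]

/-- Two involutions whose product has 2-power order different from 1 and 2. -/
theorem NAS.of_invol {a b : G} {k : ℕ} (ha : a * a = 1) (hb : b * b = 1)
    (hab : (a * b) ^ (2 ^ k) = 1) (h2 : (a * b) ^ 2 ≠ 1) : NAS G :=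
  ⟨a, b, closure_pair_isPGroup ha hb hab, fun he => h2 (by
    rw [sq]; conv_lhs => arg 2; rw [he]
    rw [show a * b * (b * a) = a * (b * b) * a by group, hb, mul_one, ha])⟩

/-- The Coxeter diagram `A₃`: a dihedral group of order 8 unless the generators collapse. -/
theorem NAS.of_chain_three {a b c : G} (ha : a * a = 1) (hb : b * b = 1) (hc : c * c = 1)
    (hab : (a * b) ^ 3 = 1) (hbc : (b * c) ^ 3 = 1) (hac : (a * c) ^ 2 = 1) (hne : a ≠ c) :
    (a * c) * (a * c) = 1 ∧ (b * c * b) * (b * c * b) = 1 ∧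
      ((a * c) * (b * c * b)) ^ 4 = 1 ∧ ((a * c) * (b * c * b)) ^ 2 ≠ 1 := by
  have braid : ∀ x y : G, x * x = 1 → y * y = 1 → (x * y) ^ 3 = 1 → x * y * x = y * x * y := by
    intro x y hx hy h
    rw [← mul_inv_eq_one]
    rw [show (y * x * y)⁻¹ = y⁻¹ * x⁻¹ * y⁻¹ by group, inv_eq_of_mul_eq_one_right hx,
      inv_eq_of_mul_eq_one_right hy]
    rw [← h]; simp [pow_succ, mul_assoc]
  have hcomm : a * c = c * a := by
    have h := hac
    rw [sq] at h
    rw [eq_comm, ← inv_eq_of_mul_eq_one_right h, mul_inv_rev, inv_eq_of_mul_eq_one_right ha,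
      inv_eq_of_mul_eq_one_right hc]
  have b1 := braid b c hb hc hbc
  have b2 := braid a b ha hb hab
  have hpq : (a * c) * (b * c * b) = a * b * c := by
    rw [b1, show a * c * (c * b * c) = a * (c * c) * b * c by group, hc, mul_one]
  rw [hpq]
  have hsq : (a * b * c) ^ 2 = b * (a * c) * b := by
    calc (a * b * c) ^ 2 = a * b * (c * a) * b * c := by rw [sq]; group
      _ = a * b * (a * c) * b * c := by rw [hcomm]
      _ = (a * b * a) * (c * b * c) := by group
      _ = (b * a * b) * (b * c * b) := by rw [b2, ← b1]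
      _ = b * a * (b * b) * c * b := by group
      _ = b * (a * c) * b := by rw [hb, mul_one]; group
  refine ⟨by rw [← sq]; exact hac, ?_, ?_, ?_⟩
  · rw [show b * c * b * (b * c * b) = b * c * (b * b) * c * b by group, hb, mul_one,
      mul_assoc b c c, hc, mul_one, hb]
  · rw [show 4 = 2 * 2 from rfl, pow_mul, hsq, sq,
      show b * (a * c) * b * (b * (a * c) * b) = b * (a * c) * (b * b) * (a * c) * b by group, hb,
      mul_one, mul_assoc b, ← sq, hac, mul_one, hb]
  · intro h
    rw [hsq] at h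
    apply hne
    have h2 : a * c = 1 := by
      have := congrArg (fun x => b * x * b) h
      rw [mul_one, hb, show b * (b * (a * c) * b) * b = (b * b) * (a * c) * (b * b) by group, hb,
        one_mul, mul_one] at this
      exact this
    rw [← inv_eq_of_mul_eq_one_right hc]
    exact eq_inv_of_mul_eq_one_left h2

end Cfsg.Agent.Lib.CTwoAbelian
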