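import Cfsg.Prelude.Def_LieTypeChar
import Cfsg.Agent.Lib.CTwoAbelian.Basic
import Cfsg.Agent.Lib.LieLocalChar.Main
import Cfsg.Agent.Lib.ZStar.Main
import Cfsg.Agent.SimpleFacts.LieOrderBounds
import Cfsg.Agent.S4625
import Cfsg.Agent.S2363
import Cfsg.Agent.Lib.M11Order.Basic

/-!
# Abelian Sylow 2-subgroups in simple groups of local characteristic 2

Such a Sylow subgroup is TI and its normaliser is transitive on its involutions; if it is elementary
abelian of order `q` this gives `(q + 1) q (q - 1) ≤ |G|`.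
-/

set_option autoImplicit false

namespace Cfsg.Agent.Lib.CTwoAbelian

open Subgroup

variable {G : Type*} [Group G] [Finite G]

/-- Centralisers of involutions are of characteristic 2. -/
def CharTwoCent (G : Type*) [Group G] : Prop :=
  ∀ x : G, orderOf x = 2 →
    centralizer (Cfsg.pCore 2 ↥(centralizer ({x} : Set G)) : Set ↥(centralizer ({x} : Set G))) ≤
      Cfsg.pCore 2 ↥(centralizer ({x} : Set G))

theorem charTwoCent_of_LC (h : LieLocalChar.LC 2 (⊥ : Subgroup G)) : CharTwoCent G := fun _ hx => by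
  haveI : Fact (Nat.Prime 2) := ⟨Nat.prime_two⟩
  exact LieLocalChar.centralizer_pCore_le_centralizer h hx rfl

variable (hC : CharTwoCent G) (S : Sylow 2 G) [IsMulCommutative (S : Subgroup G)]

include hC in
/-- A Sylow subgroup containing an involution is the 2-core of its centraliser. -/
theorem eq_core_of_mem {x : G} (hx : orderOf x = 2) (hxS : x ∈ (S : Subgroup G)) :
    (S : Subgroup G) =
      (Cfsg.pCore 2 ↥(centralizer ({x} : Set G))).map (centralizer ({x} : Set G)).subtype := by
  haveI : Fact (Nat.Prime 2) := ⟨Nat.prime_two⟩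
  set C := centralizer ({x} : Set G)
  have hSC : (S : Subgroup G) ≤ C := fun s hs => mem_centralizer_singleton_iff.2
    (congrArg Subtype.val (IsMulCommutative.is_comm.comm (⟨s, hs⟩ : (S : Subgroup G)) ⟨x, hxS⟩))
  let P : Sylow 2 C := S.subtype hSC
  have hle : Cfsg.pCore 2 C ≤ (P : Subgroup C) := Cores.pCore_le_sylow P
  have hge : (P : Subgroup C) ≤ Cfsg.pCore 2 C := by
    refine le_trans (fun p hp => ?_) (hC x hx)
    rw [mem_centralizer_iff]
    intro r hr
    have hr' : (r : G) ∈ (S : Subgroup G) := mem_subgroupOf.1 (hle hr)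
    exact Subtype.ext (congrArg Subtype.val
      (IsMulCommutative.is_comm.comm (⟨r, hr'⟩ : (S : Subgroup G)) ⟨p, mem_subgroupOf.1 hp⟩) :
        ((r : C) : G) * ((p : C) : G) = p * r)
  rw [le_antisymm hle hge]
  exact (map_subgroupOf_eq_of_le hSC).symm

include hC in
theorem centralizer_le_normalizer {x : G} (hx : orderOf x = 2) (hxS : x ∈ (S : Subgroup G)) :
    centralizer ({x} : Set G) ≤ normalizer ((S : Subgroup G) : Set G) := by
  set C := centralizer ({x} : Set G)
  rw [eq_core_of_mem hC S hx hxS]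
  intro c hc
  rw [mem_normalizer_iff]
  have hn : (Cfsg.pCore 2 ↥C).Normal := Cores.pCore_normal 2
  intro y
  constructor
  · rintro ⟨z, hz, rfl⟩
    exact ⟨⟨c, hc⟩ * z * ⟨c, hc⟩⁻¹, hn.conj_mem z hz _, rfl⟩
  · rintro ⟨z, hz, hzy⟩
    refine ⟨⟨c, hc⟩⁻¹ * z * ⟨c, hc⟩, by simpa using hn.conj_mem z hz (⟨c, hc⟩⁻¹), ?_⟩
    simp only [map_mul, map_inv, coe_subtype] at hzy ⊢
    rw [hzy]; group

include hC in
/-- The Sylow subgroups are TI. -/
theorem eq_of_involution (T : Sylow 2 G) {x : G} (hx : orderOf x = 2) (hxS : x ∈ (S : Subgroup G))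
    (hxT : x ∈ (T : Subgroup G)) : T = S := by
  haveI : IsMulCommutative (T : Subgroup G) := by
    obtain ⟨g, hg⟩ := MulAction.exists_smul_eq G S T
    exact IsMulCommutative.of_comm fun a b => by
      have e := (S.equiv T).symm
      exact e.injective (by rw [map_mul, map_mul, IsMulCommutative.is_comm.comm])
  exact Sylow.ext ((eq_core_of_mem hC T hx hxT).trans (eq_core_of_mem hC S hx hxS).symm)

theorem exists_involution {R : Subgroup G} (hR : IsPGroup 2 R) (hne : R ≠ ⊥) :
    ∃ x ∈ R, orderOf x = 2 := by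
  haveI : Fact (Nat.Prime 2) := ⟨Nat.prime_two⟩
  obtain ⟨n, hn⟩ := IsPGroup.iff_card.1 hR
  have h2 : 2 ∣ Nat.card R := by
    rcases Nat.eq_zero_or_pos n with rfl | hn0
    · exact absurd (eq_bot_of_card_eq R (by simpa using hn)) hne
    · rw [hn]; exact dvd_pow_self 2 hn0.ne'
  obtain ⟨x, hx⟩ := exists_prime_orderOf_dvd_card' (G := R) 2 h2
  exact ⟨x, x.2, by rwa [orderOf_coe]⟩

include hC in
theorem smul_injective (T : Sylow 2 G) (hT : T ≠ S) :
    Function.Injective fun s : (S : Subgroup G) => (s : G) • T := by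
  haveI : Fact (Nat.Prime 2) := ⟨Nat.prime_two⟩
  intro a b hab
  by_contra hne
  have hfix : ((b⁻¹ * a : (S : Subgroup G)) : G) • T = T := by
    simp only at hab
    rw [Subgroup.coe_mul, mul_smul, hab, ← mul_smul, Subgroup.coe_inv, inv_mul_cancel, one_smul]
  have hmem : ((b⁻¹ * a : (S : Subgroup G)) : G) ∈ (T : Subgroup G) :=
    M11Order.mem_of_smul_eq (b⁻¹ * a).2 hfix
  have hne' : (S : Subgroup G) ⊓ (T : Subgroup G) ≠ ⊥ := fun h => hne <| by
    have h1 : ((b⁻¹ * a : (S : Subgroup G)) : G) = 1 := (eq_bot_iff_forall _).1 h _ ⟨(b⁻¹ * a).2, hmem⟩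
    have h2 : b⁻¹ * a = 1 := Subtype.ext h1
    exact (inv_mul_eq_one.1 h2).symm
  obtain ⟨x, ⟨hxS, hxT⟩, hx⟩ := exists_involution (S.isPGroup'.to_le inf_le_left) hne'
  exact hT (eq_of_involution hC S T hx hxS hxT)

include hC in
theorem card_add_one_le_card_sylow (hne : ∃ T : Sylow 2 G, T ≠ S) :
    Nat.card (S : Subgroup G) + 1 ≤ Nat.card (Sylow 2 G) := by
  haveI : Fact (Nat.Prime 2) := ⟨Nat.prime_two⟩
  obtain ⟨T, hT⟩ := hne
  classical
  let f : Option (S : Subgroup G) → Sylow 2 G := fun o => o.elim S fun s => (s : G) • T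
  have hf : Function.Injective f := by
    have hS : ∀ s : (S : Subgroup G), (s : G) • T ≠ S := fun s h => hT <| by
      have h2 : ((s : G)⁻¹) • S = S := M11Order.smul_eq_of_mem (inv_mem s.2)
      calc T = (s : G)⁻¹ • (s : G) • T := (inv_smul_smul _ _).symm
        _ = (s : G)⁻¹ • S := congrArg ((s : G)⁻¹ • ·) h
        _ = S := h2
    rintro (_ | a) (_ | b) h
    · rfl
    · exact absurd h.symm (hS b)
    · exact absurd h (hS a)
    · exact congrArg some (smul_injective hC S T hT h)
  have := Nat.card_le_card_of_injective f hf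
  rwa [Finite.card_option] at this

include hC in
/-- The normaliser is transitive on the involutions of the Sylow subgroup. -/
theorem exists_normalizer_conj (hne : ∃ T : Sylow 2 G, T ≠ S) {x y : G} (hx : orderOf x = 2)
    (hy : orderOf y = 2) (hxS : x ∈ (S : Subgroup G)) (hyS : y ∈ (S : Subgroup G)) :
    ∃ n ∈ normalizer ((S : Subgroup G) : Set G), n * x * n⁻¹ = y := by
  haveI : Fact (Nat.Prime 2) := ⟨Nat.prime_two⟩
  obtain ⟨T, hT⟩ := hne
  have hTne : (T : Subgroup G) ≠ ⊥ := fun h => by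
    have hc := T.card_eq_multiplicity
    rw [h, card_bot, ← S.card_eq_multiplicity] at hc
    have := orderOf_dvd_natCard (⟨x, hxS⟩ : (S : Subgroup G))
    rw [orderOf_mk, hx, ← hc] at this
    norm_num at this
  obtain ⟨u, huT, hu⟩ := exists_involution T.isPGroup' hTne
  have huS : u ∉ (S : Subgroup G) := fun h => hT (eq_of_involution hC S T hu h huT)
  have conj_u : ∀ {v : G}, orderOf v = 2 → v ∈ (S : Subgroup G) → IsConj v u := by
    intro v hv hvS
    by_contra hnc
    obtain ⟨hi, hiv, hiu⟩ := Involutions.Basic.middle_involution hv hu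
      (Involutions.Basic.even_orderOf_mul_of_not_isConj hv hu hnc)
    set i := (v * u) ^ (orderOf (v * u) / 2) with hidef
    have hiN := centralizer_le_normalizer hC S hv hvS (mem_centralizer_singleton_iff.2 hiv.eq)
    have h2 : i ∈ (S : Subgroup G) := by
      obtain ⟨R, hR⟩ := (IsPGroup.of_card (n := 1) (G := zpowers i) (p := 2)
        (by rw [Nat.card_zpowers, hi, pow_one])).exists_le_sylow
      exact M11Order.mem_of_smul_eq (hR (mem_zpowers i))
        (Sylow.smul_eq_iff_mem_normalizer.2 hiN)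
    have huN := centralizer_le_normalizer hC S hi h2 (mem_centralizer_singleton_iff.2 hiu.symm.eq)
    exact huS (M11Order.mem_of_smul_eq huT (Sylow.smul_eq_iff_mem_normalizer.2 huN))
  obtain ⟨g, hg⟩ := isConj_iff.1 ((conj_u hx hxS).trans (conj_u hy hyS).symm)
  refine ⟨g, Sylow.smul_eq_iff_mem_normalizer.1 ?_, hg⟩
  refine eq_of_involution hC S _ hy hyS ?_
  rw [← hg, Sylow.coe_subgroup_smul]
  exact Subgroup.smul_mem_pointwise_smul x (MulAut.conj g) _ hxS

include hC in
/-- The order bound. -/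
theorem order_bound (hne : ∃ T : Sylow 2 G, T ≠ S) (hel : ∀ s ∈ (S : Subgroup G), s * s = 1) :
    (Nat.card (S : Subgroup G) + 1) * (Nat.card (S : Subgroup G) * (Nat.card (S : Subgroup G) - 1))
      ≤ Nat.card G := by
  haveI : Fact (Nat.Prime 2) := ⟨Nat.prime_two⟩
  classical
  set q := Nat.card (S : Subgroup G) with hq
  set N := normalizer ((S : Subgroup G) : Set G) with hN
  have hG : Nat.card G = Nat.card N * Nat.card (Sylow 2 G) := by
    rw [S.card_eq_index_normalizer]; exact (card_mul_index N).symm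
  rcases eq_or_ne (S : Subgroup G) ⊥ with hb | hb
  · simp [hq, hb]
  obtain ⟨x, hxS, hx⟩ := exists_involution S.isPGroup' hb
  have ordTwo : ∀ s ∈ (S : Subgroup G), s ≠ 1 → orderOf s = 2 := fun s hs h1 =>
    orderOf_eq_prime (by rw [sq]; exact hel s hs) h1
  let α := {s : (S : Subgroup G) // s ≠ 1}
  have hα : ∀ s : α, ∃ n : N, (n : G) * x * (n : G)⁻¹ = s.1 := by
    intro s
    obtain ⟨n, hn, he⟩ := exists_normalizer_conj hC S hne hx
      (ordTwo _ s.1.2 fun h => s.2 (Subtype.ext h)) hxS s.1.2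
    exact ⟨⟨n, hn⟩, he⟩
  choose f hf using hα
  let F : α × (S : Subgroup G) → N := fun p => f p.1 * ⟨p.2, le_normalizer p.2.2⟩
  have hF : Function.Injective F := by
    rintro ⟨a, s⟩ ⟨b, t⟩ h
    have hv : (f a : G) * s = f b * t := congrArg Subtype.val h
    have key : ∀ r : (S : Subgroup G), (r : G) * x * (r : G)⁻¹ = x := fun r => by
      rw [show (r : G) * x = x * r from congrArg Subtype.val
        (IsMulCommutative.is_comm.comm r ⟨x, hxS⟩), mul_inv_cancel_right]
    have hab : a = b := by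
      apply Subtype.ext; apply Subtype.ext
      rw [← hf a, ← hf b]
      calc (f a : G) * x * (f a : G)⁻¹
          = (f a : G) * ((s : G) * x * (s : G)⁻¹) * (f a : G)⁻¹ := by rw [key]
        _ = ((f a : G) * s) * x * ((f a : G) * s)⁻¹ := by group
        _ = ((f b : G) * t) * x * ((f b : G) * t)⁻¹ := by rw [hv]
        _ = (f b : G) * ((t : G) * x * (t : G)⁻¹) * (f b : G)⁻¹ := by group
        _ = _ := by rw [key]
    subst hab
    exact Prod.ext rfl (Subtype.ext (mul_left_cancel hv))
  have h1 := Nat.card_le_card_of_injective F hF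
  have h2 : Nat.card α = q - 1 := by
    haveI := Fintype.ofFinite (S : Subgroup G)
    rw [hq, Nat.card_eq_fintype_card, Nat.card_eq_fintype_card, Fintype.card_subtype_compl,
      Fintype.card_subtype_eq]
  rw [Nat.card_prod, h2, ← hq] at h1
  rw [hG, mul_comm (Nat.card N)]
  exact Nat.mul_le_mul (card_add_one_le_card_sylow hC S hne) (by rw [mul_comm]; exact h1)

theorem small_commutative [IsSimpleGroup G] (h : Nat.card G ≤ 6) : IsMulCommutative G := by
  have h1 : 1 < Nat.card G := Finite.one_lt_card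
  have comm : ∀ p : ℕ, p.Prime → Nat.card G = p → IsMulCommutative G := fun p hp hc => by
    haveI := Fact.mk hp
    haveI := isCyclic_of_prime_card hc
    exact IsMulCommutative.of_comm fun a b => IsCyclic.commGroup.mul_comm a b
  rcases (show Nat.card G = 2 ∨ Nat.card G = 3 ∨ Nat.card G = 4 ∨ Nat.card G = 5 ∨ Nat.card G = 6 by
    omega) with h | h | h | h | h
  · exact comm 2 Nat.prime_two h
  · exact comm 3 Nat.prime_three h
  · haveI : Fact (Nat.Prime 2) := ⟨Nat.prime_two⟩
    exact IsMulCommutative.of_comm (IsPGroup.commutative_of_card_eq_prime_sq (p := 2) (by rw [h]; rfl))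
  · exact comm 5 (by norm_num) h
  · exfalso
    haveI : Fact (Nat.Prime 3) := ⟨Nat.prime_three⟩
    obtain ⟨x, hx⟩ := exists_prime_orderOf_dvd_card' (G := G) 3 (by rw [h]; norm_num)
    have hi : (zpowers x).index = 2 := by
      have := card_mul_index (zpowers x)
      rw [Nat.card_zpowers, hx, h] at this
      omega
    haveI := normal_of_index_eq_two hi
    rcases Subgroup.Normal.eq_bot_or_eq_top ‹(zpowers x).Normal› with hb | ht
    · rw [zpowers_eq_bot] at hb; simp [hb] at hx
    · rw [ht, index_top] at hi; omega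

/-- Lie type of characteristic 2: only `PSL₂` can have abelian Sylow 2-subgroups. -/
theorem lie_two [IsSimpleGroup G] (hG : Cfsg.IsLieTypeChar 2 G) (hna : ¬ IsMulCommutative G)
    (P : Sylow 2 G) (hab : IsMulCommutative (P : Subgroup G)) :
    ∃ (F : Type) (_ : Field F) (_ : Fintype F), Fintype.card F = 2 ^ (Nat.card G).factorization 2 ∧
      Nonempty (G ≃* Matrix.ProjectiveSpecialLinearGroup (Fin 2) F) := by
  haveI : Fact (Nat.Prime 2) := ⟨Nat.prime_two⟩
  haveI := hab
  by_contra hne
  have h8 := (Cfsg.Agent.S2363.result 2 Nat.prime_two hG).2 hne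
  have hel : ∀ s ∈ (P : Subgroup G), s * s = 1 := by
    intro s hs
    have h := Cfsg.Agent.S4625.result hG P ⟨s, hs⟩
    have hc : commutator (P : Subgroup G) = ⊥ := by
      rw [commutator_def, commutator_eq_bot_iff_le_centralizer]
      exact fun a _ => mem_centralizer_iff.2 fun b _ => IsMulCommutative.is_comm.comm b a
    rw [hc, mem_bot] at h
    simpa [sq] using congrArg Subtype.val h
  rw [mul_comm 8, pow_mul, ← P.card_eq_multiplicity] at h8
  set q := Nat.card (P : Subgroup G) with hq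
  have hq3 : 3 ≤ q := by
    by_contra h
    have h1 : Nat.card G ^ 3 < 2 ^ 8 :=
      h8.trans_le (Nat.pow_le_pow_left (show q ≤ 2 by omega) 8)
    have h2 : Nat.card G ≤ 6 := by
      by_contra h6
      have := Nat.pow_le_pow_left (show 7 ≤ Nat.card G by omega) 3
      omega
    exact hna (small_commutative h2)
  have hP : ∃ T : Sylow 2 G, T ≠ P := by
    by_contra hall
    push Not at hall
    have hn : (P : Subgroup G).Normal := by
      haveI : Subsingleton (Sylow 2 G) := ⟨fun a b => (hall a).trans (hall b).symm⟩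
      exact P.normal_of_subsingleton
    rcases hn.eq_bot_or_eq_top with hb | ht
    · rw [hq, hb, card_bot] at hq3
      omega
    · exact hna (IsMulCommutative.of_comm fun a b => congrArg Subtype.val
        (hab.is_comm.comm ⟨a, by rw [ht]; trivial⟩ ⟨b, by rw [ht]; trivial⟩))
  have hb := order_bound (charTwoCent_of_LC (LieLocalChar.of_isLieTypeChar hG)) P hP hel
  obtain ⟨r, hr⟩ : ∃ r, q = r + 3 := ⟨q - 3, by omega⟩
  have : ((q + 1) * (q * (q - 1))) ^ 3 < q ^ 8 := lt_of_le_of_lt (Nat.pow_le_pow_left hb 3) h8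
  rw [hr, show r + 3 - 1 = r + 2 by omega] at this
  refine absurd this (not_lt.2 ?_)
  have h1 : (r + 3) ^ 2 ≤ (r + 4) * (r + 2) + 1 := by nlinarith
  have h2 : 8 ≤ (r + 4) * (r + 2) := by nlinarith
  generalize hA : (r + 4) * (r + 2) = A at h1 h2
  have h3 : (r + 3) ^ 5 ≤ A ^ 3 := by
    calc (r + 3) ^ 5 ≤ (r + 3) ^ 6 / 3 := by
          rw [Nat.le_div_iff_mul_le (by norm_num)]
          rw [show (r + 3) ^ 6 = (r + 3) ^ 5 * (r + 3) by ring]
          exact Nat.mul_le_mul_left _ (by omega)
      _ ≤ (A + 1) ^ 3 / 3 := by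
          refine Nat.div_le_div_right ?_
          rw [show (r + 3) ^ 6 = ((r + 3) ^ 2) ^ 3 by ring]
          exact Nat.pow_le_pow_left h1 3
      _ ≤ A ^ 3 := by
          refine Nat.div_le_of_le_mul ?_
          nlinarith [Nat.mul_le_mul h2 (le_refl (A * A)), Nat.mul_le_mul h2 (le_refl A)]
  calc (r + 3) ^ 8 = (r + 3) ^ 3 * (r + 3) ^ 5 := by ring
    _ ≤ (r + 3) ^ 3 * A ^ 3 := Nat.mul_le_mul_left _ h3
    _ = _ := by rw [← hA]; ring

end Cfsg.Agent.Lib.CTwoAbelian
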