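import Cfsg.Prelude.Def_CaseTheorems
import Cfsg.Prelude.Def_KGroupFacts
import Cfsg.Agent.Lib.Classical.SL2Rep
import Cfsg.Agent.Lib.Classical.GL2
import Cfsg.Agent.S2086
import Cfsg.Agent.S3974
import Cfsg.Agent.S0252
import Cfsg.Agent.S0253

/-!
# Quasisimple groups over `PSL₂(2ⁿ)` and over `A₅` with a 2-group as centre
-/

set_option autoImplicit false
set_option linter.style.haveILetI false

noncomputable section

namespace Cfsg.Agent.Lib.CTwoAbelian

open Subgroup

variable {K : Type*} [Group K] [Finite K]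

/-- A copy of a finite group in `Type`. -/
theorem exists_small (K : Type*) [Group K] [Finite K] :
    ∃ (K' : Type) (_ : Group K') (_ : Finite K'), Nonempty (K' ≃* K) := by
  obtain ⟨n, ⟨e⟩⟩ := Finite.exists_equiv_fin K
  exact ⟨Fin n, e.symm.group, inferInstance, ⟨e.symm.mulEquiv⟩⟩

theorem stem_of_quotient {K' Q : Type*} [Group K'] [Group Q] (hperf : _root_.commutator K = ⊤)
    (eK : K' ≃* K) (e : K ⧸ center K ≃* Q) :
    ∃ σ : K' →* Q, Cfsg.IsStemExtension σ ∧ σ.ker = (center K).comap eK.toMonoidHom := by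
  refine ⟨e.toMonoidHom.comp ((QuotientGroup.mk' (center K)).comp eK.toMonoidHom),
    ⟨e.surjective.comp ((QuotientGroup.mk'_surjective _).comp eK.surjective), ?_, ?_⟩, ?_⟩
  · intro x hx
    have hx' : eK x ∈ center K := by
      rw [MonoidHom.mem_ker] at hx
      exact (QuotientGroup.eq_one_iff _).1 (e.injective (hx.trans (map_one e).symm))
    refine mem_center_iff.2 fun y => eK.injective ?_
    rw [map_mul, map_mul]
    exact mem_center_iff.1 hx' _
  · intro x _
    have : (_root_.commutator K').map eK.toMonoidHom = ⊤ := by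
      rw [_root_.commutator_def, map_commutator, map_top_of_surjective _ eK.surjective, ← _root_.commutator_def, hperf]
    obtain ⟨y, hy, he⟩ := this.ge (mem_top (eK x))
    exact eK.injective he ▸ hy
  · ext x
    rw [MonoidHom.mem_ker, mem_comap]
    show e (QuotientGroup.mk' (center K) (eK x)) = 1 ↔ eK x ∈ center K
    rw [map_eq_one_iff e e.injective]
    exact QuotientGroup.eq_one_iff _

theorem center_eq_bot_of_psl_even {F : Type} [Field F] [Fintype F] {n : ℕ} (hn : 3 ≤ n)
    (hF : Fintype.card F = 2 ^ n) (hq : Cfsg.IsQuasisimple K)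
    (e : K ⧸ center K ≃* Matrix.ProjectiveSpecialLinearGroup (Fin 2) F) : center K = ⊥ := by
  obtain ⟨K', _, _, ⟨eK⟩⟩ := exists_small K
  obtain ⟨σ, hσ, hker⟩ := stem_of_quotient hq.1.commutator_eq_top eK e
  have h8 : 8 ≤ Fintype.card F := by
    rw [hF, show (8 : ℕ) = 2 ^ 3 from rfl]
    exact Nat.pow_le_pow_right (by norm_num) hn
  have hm := Cfsg.Agent.S2086.result (F := F) rfl 2 le_rfl (fun _ => by omega) (by
    simp only [Set.mem_insert_iff, Set.mem_singleton_iff, Prod.mk.injEq]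
    rintro (⟨-, h⟩ | ⟨-, h⟩ | ⟨h, -⟩ | ⟨h, -⟩ | ⟨h, -⟩)
    · omega
    · have : 2 ∣ Fintype.card F := hF ▸ dvd_pow_self 2 (by omega)
      omega
    all_goals omega)
  have hg : Nat.gcd 2 (Fintype.card F - 1) = 1 := by
    refine (Nat.prime_two.coprime_iff_not_dvd).2 fun h => ?_
    have : 2 ∣ Fintype.card F := hF ▸ dvd_pow_self 2 (by omega)
    omega
  rw [hg] at hm
  obtain ⟨π, hπ⟩ := hm.2 K' σ hσ
  have h1 : Nat.card σ.ker ≤ 1 := by
    refine (Nat.card_le_card_of_surjective π hπ).trans ?_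
    simp
  rw [eq_bot_iff]
  intro z hz
  have hzk : eK.symm z ∈ σ.ker := by rw [hker]; simpa using hz
  have := (card_le_one_iff_eq_bot _).1 h1 ▸ hzk
  rw [mem_bot] at this ⊢
  simpa using congrArg eK this

theorem commutator_psl_five :
    _root_.commutator (Matrix.ProjectiveSpecialLinearGroup (Fin 2) (ZMod 5)) = ⊤ := by
  haveI : Fact (Nat.Prime 5) := ⟨by norm_num⟩
  have h := Cfsg.Agent.Classical.SL2Rep.commutator_two_eq_top (F := ZMod 5) (by simp)
  rw [_root_.commutator_def, ← map_top_of_surjective _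
    (QuotientGroup.mk'_surjective (center (Matrix.SpecialLinearGroup (Fin 2) (ZMod 5)))),
    ← map_commutator, ← _root_.commutator_def, h]

/-- A quasisimple group over `A₅` with 2-group centre is `A₅` or `SL₂(5)`. -/
theorem center_bot_or_sl_five (hq : Cfsg.IsQuasisimple K)
    (e : K ⧸ center K ≃* alternatingGroup (Fin 5)) :
    center K = ⊥ ∨ ∃ (F : Type) (_ : Field F) (_ : Fintype F), Fintype.card F = 5 ∧
      Nonempty (K ≃* Matrix.SpecialLinearGroup (Fin 2) F) := by
  haveI : Fact (Nat.Prime 5) := ⟨by norm_num⟩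
  haveI : Fact (Nat.Prime 2) := ⟨Nat.prime_two⟩
  obtain ⟨e5⟩ := Cfsg.Agent.S0253.result (F := ZMod 5) (ZMod.card 5)
  obtain ⟨K', _, _, ⟨eK⟩⟩ := exists_small K
  obtain ⟨σ, hσ, hker⟩ := stem_of_quotient hq.1.commutator_eq_top eK (e.trans e5.symm)
  have hm := Cfsg.Agent.S2086.result (F := ZMod 5) rfl 2 le_rfl (fun _ => by simp)
    (by simp)
  rw [ZMod.card, show Nat.gcd 2 (5 - 1) = 2 from rfl] at hm
  obtain ⟨π, hπ⟩ := hm.2 K' σ hσ
  have h2 : Nat.card σ.ker ≤ 2 := by
    refine (Nat.card_le_card_of_surjective π hπ).trans ?_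
    simp
  rcases Nat.lt_or_ge (Nat.card σ.ker) 2 with h | h
  · left
    rw [eq_bot_iff]
    intro z hz
    have hzk : eK.symm z ∈ σ.ker := by rw [hker]; simpa using hz
    have := (card_le_one_iff_eq_bot _).1 (Nat.le_of_lt_succ h) ▸ hzk
    rw [mem_bot] at this ⊢
    simpa using congrArg eK this
  · right
    have hcard : Nat.card σ.ker = 2 := le_antisymm h2 h
    set σ₂ := QuotientGroup.mk' (center (Matrix.SpecialLinearGroup (Fin 2) (ZMod 5)))
    have hperf := Cfsg.Agent.Classical.SL2Rep.commutator_two_eq_top (F := ZMod 5) (by simp)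
    have hσ₂ : Cfsg.IsStemExtension σ₂ :=
      ⟨QuotientGroup.mk'_surjective _, (QuotientGroup.ker_mk' _).le, hperf ▸ le_top⟩
    have hcard₂ : Nat.card σ₂.ker = 2 := by
      rw [QuotientGroup.ker_mk', Cfsg.Agent.Classical.Linear.natCard_center_SL]
      simp
    have hcop : Nat.Coprime
        (Nat.card (Abelianization (Matrix.ProjectiveSpecialLinearGroup (Fin 2) (ZMod 5))))
        (Nat.card (Multiplicative (ZMod 2))) := by
      haveI : Subsingleton (Abelianization (Matrix.ProjectiveSpecialLinearGroup (Fin 2) (ZMod 5))) :=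
        QuotientGroup.subsingleton_iff.2 commutator_psl_five
      rw [Nat.card_of_subsingleton (1 : Abelianization (Matrix.ProjectiveSpecialLinearGroup (Fin 2) (ZMod 5)))]
      exact Nat.coprime_one_left _
    obtain ⟨e', -⟩ := (Cfsg.Agent.S3974.result hm).2 hcop K'
      (Matrix.SpecialLinearGroup (Fin 2) (ZMod 5)) σ σ₂ hσ hσ₂
      ⟨mulEquivOfPrimeCardEq (p := 2) hcard (by simp)⟩ ⟨mulEquivOfPrimeCardEq (p := 2) hcard₂ (by simp)⟩
    exact ⟨ZMod 5, inferInstance, inferInstance, ZMod.card 5, ⟨eK.symm.trans e'⟩⟩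

end Cfsg.Agent.Lib.CTwoAbelian
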